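import Cfsg.Agent.H258.CoT.Lat
import Cfsg.Agent.H612.CoT.Gens
import Cfsg.Agent.H843.IMC.Co2B
import Cfsg.Agent.Schreier.CoTwoStab

/-!
# The 2300 pairs and their codes (helper258)

The vectors orthogonal to `a0` modulo 2 are congruent to `comb bets (cdv x)` or to its sum with `a0` (`exists_mu`); hence the
code `cdv` separates the 2300 pairs (`mk_of_cdv`).
-/

set_option autoImplicit false
set_option maxRecDepth 100000

namespace Cfsg.Agent.H258.CoT

open Cfsg Cfsg.Agent.H633.Ore Cfsg.Agent.LeechMat.Elements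
open Cfsg.Agent.SporadicStructure.Co2RankThree (dt dt_comm dt_add_right dt_sub_right dt_neg_right norm_eq a0 A toCo0 opp
  toCo0_a0 dt_smul dt_smul_of_fix dt_a0_a0)
open Cfsg.Agent.H612.CoT.Gens (cdv cdc cdL del cdc_eq tt Gt cdv_tt)
open Cfsg.Agent.H843.IMC.Co2B (X Y mk op mk_eq mk_op)

/-- codes of the basis -/
def betc : List ℕ := [0xa42108421084210842108421084290, 0x94a0e8425084250842508421074212, 0x94210842108421074a10849d284a12, 0x941d084a1084a1084a108420e84252, 0x941d083a1084a1083a1084212841d2, 0xa42108521084210842108421084210, 0x941d273a1084212841d08421084212, 0x93a10842108420e84250741d084a12, 0x94a1084212841d0842108420e84a52, 0x8be2f7be317be318be317bdf17c633, 0x93a508420e8421083a5083a1084212, 0x9421073a0e842108420e84a1284212, 0x9424e93a1084212842508421084212, 0x94a107421083a10842528421084252, 0x941d07420e849d0842108421094212, 0x941d294a108420e842508421084212, 0x942129425083a1084a1083a1084212, 0x93a1074210842527421083a1084212, 0x9421284212842128421084a1094a12, 0x842108421084210842108419084214,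 0x9421093a1084a10942107425084212, 0x9420e84a12841d073a108421084212]

/-- the inverse Gram matrix of the 24 vectors -/
def D24 : List ℕ := [6365592, 1967492, 5489130, 1522021, 5402017, 2669596, 1686156, 57943, 3470879, 7912896, 834354, 7255672, 634728, 8167417, 2228628, 8011748, 4984909, 8177694, 5975306, 7847522, 7250782, 5958433, 12560917, 4194304]

/-- the vector of a code -/
def lv (c : ℕ) : leechLattice := if h : isLeech c = true then ⟨vec c, isLeech_sound h⟩ else 0

theorem coe_lv {c : ℕ} (h : isLeech c = true) : ((lv c : leechLattice) : GolayPt → ℤ) = vec c := by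
  rw [lv, dif_pos h]

theorem bt_eq (x y : leechLattice) : bt x y = Cfsg.Agent.H612.CoT.Gens.bt x y := by
  obtain ⟨k, hk⟩ := exists_dt x y
  rw [bt_of hk]
  have h1 : dotInt (x : GolayPt → ℤ) (y : GolayPt → ℤ) = 8 * k := hk
  rw [Cfsg.Agent.H612.CoT.Gens.bt, h1, decide_eq_decide]
  omega

theorem kap_lv {l : List ℕ} (h : l.all isLeech = true) (x : leechLattice) : kap (l.map lv) x = cdL x l := by
  induction l with
  | nil => rfl
  | cons c l ih =>
    rw [List.all_cons, Bool.and_eq_true] at h
    show (bt (lv c) x).toNat + 2 * kap (l.map lv) x = Nat.bit (Cfsg.Agent.H612.CoT.Gens.bt (vec c) x) (cdL x l)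
    rw [ih h.2, bt_eq, coe_lv h.1, Nat.bit_val, add_comm]

theorem map_kap {l m : List ℕ} (hl : l.all isLeech = true) (hm : m.all isLeech = true) :
    (l.map lv).map (kap (m.map lv)) = l.map fun c => cdc c m := by
  rw [List.map_map]
  refine List.map_congr_left fun c hc => ?_
  show kap (m.map lv) (lv c) = cdc c m
  rw [kap_lv hm, coe_lv (List.all_eq_true.1 hl c hc), cdc_eq]

theorem leech24 : (betc ++ [cA 0, cS]).all isLeech = true := by decide +kernel

theorem leech22 : betc.all isLeech = true := by decide +kernel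

theorem leechDel : del.all isLeech = true := by decide +kernel

/-- the basis `bet` -/
def bets : List leechLattice := betc.map lv

/-- the dual basis -/
def dels : List leechLattice := del.map lv

theorem cdv_eq (x : leechLattice) : kap dels x = cdv x := kap_lv leechDel x

theorem lv_a0 : lv (cA 0) = a0 := by
  apply Subtype.ext
  rw [coe_lv (by decide +kernel)]
  exact Cfsg.Agent.H612.CoT.Gens.coe_U.symm

theorem gram24 : (((betc ++ [cA 0, cS]).map lv).map (kap ((betc ++ [cA 0, cS]).map lv))).map (linL D24) = idL 24 := by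
  rw [map_kap leech24 leech24]
  decide +kernel

theorem dual22 : bets.map (kap dels) = idL 22 := by
  rw [bets, dels, map_kap leech22 leechDel]
  decide +kernel

theorem len_bets : bets.length = 22 := by rw [bets, List.length_map]; rfl

theorem kap_comb_bets {v : ℕ} (hv : v < 2 ^ 22) : kap dels (comb bets v) = v := by
  rw [kap_comb, dual22, linL_idL hv]

theorem bt_lv (c d : ℕ) (hc : isLeech c = true) (hd : isLeech d = true) :
    bt (lv c) (lv d) = Cfsg.Agent.H612.CoT.Gens.btc c d := by
  rw [bt_eq, coe_lv hc, coe_lv hd, Cfsg.Agent.H612.CoT.Gens.btc_eq]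

theorem bt_a0_bets : ∀ b ∈ bets, bt a0 b = false := by
  intro b hb
  obtain ⟨c, hc, rfl⟩ := List.mem_map.1 hb
  have h : ∀ c ∈ betc, Cfsg.Agent.H612.CoT.Gens.btc (cA 0) c = false := by decide +kernel
  rw [← lv_a0, bt_lv _ _ (by decide +kernel) (List.all_eq_true.1 leech22 c hc)]
  exact h c hc

theorem bt_a0_a0 : bt a0 a0 = false := by
  rw [bt_of (k := 4) (by rw [dt_a0_a0]; norm_num)]
  rfl

theorem bt_a0_s : bt a0 (lv cS) = true := by
  rw [← lv_a0, bt_lv _ _ (by decide +kernel) (by decide +kernel)]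
  decide +kernel

theorem kap_a0 : kap dels a0 = 0 := by
  rw [cdv_eq]
  exact Cfsg.Agent.H612.CoT.Gens.cdv_U

/-- **vectors orthogonal to `a0` modulo 2** -/
theorem exists_mu {x : leechLattice} (hx : bt a0 x = false) :
    ∃ c : Bool, Cong x (comb bets (cdv x) + if c then a0 else 0) := by
  obtain ⟨v, hv, hc⟩ := exists_comb gram24 x
  rw [List.map_append, comb_append] at hc
  have e1 : (betc.map lv).length = 22 := len_bets
  have hc' : Cong x (comb bets v + ((if (v >>> 22).testBit 0 then lv (cA 0) else 0) +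
      ((if (v >>> 22 >>> 1).testBit 0 then lv cS else 0) + 0))) := by
    rw [e1] at hc
    exact hc
  rw [lv_a0, add_zero] at hc'
  have h1 := hc'.bt a0
  rw [hx, bt_add, bt_add, bt_comb_false bt_a0_bets, Bool.false_xor] at h1
  have h2 : bt a0 (if (v >>> 22).testBit 0 = true then a0 else 0) = false := by
    split_ifs
    · exact bt_a0_a0
    · exact bt_zero _
  rw [h2, Bool.false_xor] at h1
  have h3 : (v >>> 22 >>> 1).testBit 0 = false := by
    by_contra h
    rw [Bool.not_eq_false] at h
    rw [if_pos h, bt_a0_s] at h1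
    exact Bool.false_ne_true h1
  rw [h3, if_neg Bool.false_ne_true, add_zero] at hc'
  have h4 : comb bets v = comb bets (v % 2 ^ 22) := (comb_mod bets v 22 (le_of_eq len_bets)).symm
  rw [h4] at hc'
  refine ⟨(v >>> 22).testBit 0, ?_⟩
  have h5 : cdv x = v % 2 ^ 22 := by
    rw [← cdv_eq, kap_congr dels fun b _ => hc'.bt b, kap_add, kap_comb_bets (Nat.mod_lt _ (by norm_num))]
    have h6 : kap dels (if (v >>> 22).testBit 0 = true then a0 else 0) = 0 := by
      split_ifs
      · exact kap_a0
      · exact kap_zero _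
    rw [h6, Nat.xor_zero]
  rw [h5]
  exact hc'

/-! ### the pairs -/

theorem bt_X (x : X) : bt a0 x.1 = false := by
  rw [bt_of (k := -2) (by rw [x.2.2]; norm_num)]
  rfl

theorem cdv_op (x : X) : cdv ((op x).1 : leechLattice) = cdv x.1 := by
  show cdv ((opp x.1 : leechLattice) : GolayPt → ℤ) = _
  rw [← cdv_eq, ← cdv_eq, opp]
  have h1 : kap dels (-(a0 + x.1)) = kap dels (a0 + x.1) := kap_congr dels fun b _ => bt_neg b _
  rw [h1, kap_add, kap_a0, Nat.zero_xor]

theorem eq_of_cong {x y : X} (h : Cong x.1 y.1) : y = x := by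
  rcases h.eq_or x.2.1 y.2.1 with h1 | h1
  · exact Subtype.ext h1
  · exfalso
    have h2 := y.2.2
    rw [h1, dt_neg_right, x.2.2] at h2
    norm_num at h2

/-- **the codes separate the pairs** -/
theorem mk_of_cdv {x y : X} (h : cdv (x.1 : leechLattice) = cdv (y.1 : leechLattice)) : mk x = mk y := by
  obtain ⟨c, hc⟩ := exists_mu (bt_X x)
  obtain ⟨d, hd⟩ := exists_mu (bt_X y)
  rw [h] at hc
  have key : ∀ z : X, Cong z.1 (comb bets (cdv (y.1 : leechLattice))) ∨
      Cong z.1 (comb bets (cdv (y.1 : leechLattice)) + a0) → Cong z.1 (comb bets (cdv (y.1 : leechLattice))) ∨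
      Cong (op z).1 (comb bets (cdv (y.1 : leechLattice))) := by
    rintro z (h1 | h1)
    · exact Or.inl h1
    · right
      have h2 : Cong (op z).1 (a0 + z.1) := Cong.neg _
      have h3 : Cong (a0 + z.1) (a0 + (comb bets (cdv (y.1 : leechLattice)) + a0)) := (Cong.refl a0).add h1
      refine h2.trans (h3.trans ⟨a0, by abel⟩)
  have hx : Cong x.1 (comb bets (cdv (y.1 : leechLattice))) ∨ Cong (op x).1 (comb bets (cdv (y.1 : leechLattice))) := by
    refine key x ?_
    cases c
    · left; simpa using hc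
    · right; simpa using hc
  have hy : Cong y.1 (comb bets (cdv (y.1 : leechLattice))) ∨ Cong (op y).1 (comb bets (cdv (y.1 : leechLattice))) := by
    refine key y ?_
    cases d
    · left; simpa using hd
    · right; simpa using hd
  rcases hx with hx | hx <;> rcases hy with hy | hy
  · rw [eq_of_cong (hx.trans hy.symm)]
  · have h1 : op y = x := eq_of_cong (hx.trans hy.symm)
    rw [← h1, mk_op]
  · have h1 : y = op x := eq_of_cong (hx.trans hy.symm)
    rw [h1, mk_op]
  · have h1 : op y = op x := eq_of_cong (hx.trans hy.symm)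
    rw [← mk_op x, ← h1, mk_op]

/-- the code of a pair -/
def cd : Y → ℕ := Quotient.lift (fun x : X => cdv (x.1 : leechLattice)) (by
  rintro x y (h | h)
  · rw [h]
  · rw [h]; exact (cdv_op x).symm)

theorem cd_mk (x : X) : cd (mk x) = cdv (x.1 : leechLattice) := rfl

theorem cd_inj {y y' : Y} (h : cd y = cd y') : y = y' := by
  obtain ⟨x, rfl⟩ := Cfsg.Agent.H843.IMC.Co2B.exists_mk y
  obtain ⟨x', rfl⟩ := Cfsg.Agent.H843.IMC.Co2B.exists_mk y'
  exact mk_of_cdv h

theorem cd_lt (y : Y) : cd y < 2 ^ 22 := by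
  obtain ⟨x, rfl⟩ := Cfsg.Agent.H843.IMC.Co2B.exists_mk y
  exact Cfsg.Agent.H612.CoT.Gens.cdv_lt _

/-- the generators act on the codes -/
theorem cd_tt (t : ℕ) (y : Y) : cd (tt t • y) = linL (Gt t) (cd y) := by
  obtain ⟨x, rfl⟩ := Cfsg.Agent.H843.IMC.Co2B.exists_mk y
  rw [Cfsg.Agent.H843.IMC.Co2B.smul_mk, cd_mk, cd_mk]
  refine cdv_tt t x.1 ?_
  have h : dotInt (Spor.leechU : leechLattice) (x.1 : GolayPt → ℤ) = -16 := x.2.2
  rw [h]; norm_num

theorem bt_op_left (x y : X) : bt (op x).1 y.1 = bt x.1 y.1 := by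
  rw [bt_comm, bt_comm x.1]
  show bt y.1 (-(a0 + x.1)) = _
  rw [bt_neg, bt_add, bt_comm y.1 a0, bt_X, Bool.false_xor]

/-- the relation -/
def bf : Y → Y → Bool := Quotient.lift₂ (fun x y : X => bt x.1 y.1) (by
  rintro x y x' y' (h1 | h1) (h2 | h2)
  · rw [h1, h2]
  · rw [h1, h2, bt_comm x.1, bt_comm x.1, bt_op_left]
  · rw [h1, h2, bt_op_left]
  · rw [h1, h2, bt_op_left, bt_comm x.1, bt_comm x.1, bt_op_left])

theorem bf_mk (x y : X) : bf (mk x) (mk y) = bt x.1 y.1 := rfl

theorem bt_smul (g : Co0) (x y : leechLattice) : bt (g • x) (g • y) = bt x y := by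
  unfold bt; rw [dt_smul]

theorem bf_inv (g : Spor.Co2) (y y' : Y) : bf (g • y) (g • y') = bf y y' := by
  obtain ⟨x, rfl⟩ := Cfsg.Agent.H843.IMC.Co2B.exists_mk y
  obtain ⟨x', rfl⟩ := Cfsg.Agent.H843.IMC.Co2B.exists_mk y'
  exact bt_smul (toCo0 g) x.1 x'.1

/-- the bits with the basis determine the code -/
theorem bt_eq_comb (x : X) (y : leechLattice) (hy : bt a0 y = false) : bt y x.1 = bt y (comb bets (cdv (x.1 : leechLattice))) := by
  obtain ⟨c, hc⟩ := exists_mu (bt_X x)
  rw [hc.bt y, bt_add]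
  have : bt y (if c = true then a0 else 0) = false := by
    split_ifs
    · rw [bt_comm]; exact hy
    · exact bt_zero y
  rw [this, Bool.xor_false]

/-- the Gram matrix of the basis -/
def J22 : List ℕ := betc.map fun c => cdc c betc

theorem kap_bets (x : X) : kap bets x.1 = linL J22 (cdv (x.1 : leechLattice)) := by
  rw [kap_congr (y := comb bets (cdv (x.1 : leechLattice))) bets fun b hb => bt_eq_comb x b (bt_a0_bets b hb), kap_comb]
  have h : bets.map (kap bets) = J22 := map_kap leech22 leech22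
  rw [h]

/-- the inverse of the Gram matrix -/
def Jinv : List ℕ := [2171288, 1967492, 1294826, 1522021, 1207713, 2669596, 1686156, 57943, 3470879, 3718592, 834354, 3061368, 634728, 3973113, 2228628, 3817444, 790605, 3983390, 1781002, 3653218, 3056478, 1764129]

theorem J_inv : J22.map (linL Jinv) = idL 22 := by decide +kernel

/-- the points of the basis -/
theorem exists_bet : ∀ b ∈ bets, ∃ x : X, x.1 = -b := by
  intro b hb
  obtain ⟨c, hc, rfl⟩ := List.mem_map.1 hb
  have hc' := List.all_eq_true.1 leech22 c hc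
  have h1 : ∀ c ∈ betc, dotc c c = 32 := by decide +kernel
  have h2 : ∀ c ∈ betc, dotc (cA 0) c = 16 := by decide +kernel
  have h3 : dt (lv c) (lv c) = 32 := by
    show dotInt _ _ = _
    rw [coe_lv hc', ← dotc_eq]; exact h1 c hc
  have h4 : dt a0 (lv c) = 16 := by
    rw [← lv_a0]
    show dotInt _ _ = _
    rw [coe_lv hc', coe_lv (by decide +kernel), ← dotc_eq]; exact h2 c hc
  refine ⟨⟨-lv c, ?_, ?_⟩, rfl⟩
  · rw [dt_neg_right, dt_comm, dt_neg_right, h3]; norm_num
  · rw [dt_neg_right, h4]

/-- **the relation is nondegenerate** -/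
theorem bf_nd (y y' : Y) (h : ∀ z, bf z y = bf z y') : y = y' := by
  obtain ⟨x, rfl⟩ := Cfsg.Agent.H843.IMC.Co2B.exists_mk y
  obtain ⟨x', rfl⟩ := Cfsg.Agent.H843.IMC.Co2B.exists_mk y'
  have h1 : ∀ b ∈ bets, bt b x.1 = bt b x'.1 := by
    intro b hb
    obtain ⟨z, hz⟩ := exists_bet b hb
    have h2 : bt z.1 x.1 = bt z.1 x'.1 := h (mk z)
    rwa [hz, bt_comm, bt_neg, bt_comm, bt_comm (-b), bt_neg, bt_comm x'.1] at h2
  have h2 : kap bets x.1 = kap bets x'.1 := kap_congr bets h1
  rw [kap_bets, kap_bets] at h2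
  have h3 := congrArg (linL Jinv) h2
  rw [← linL_map, ← linL_map, J_inv, linL_idL (Cfsg.Agent.H612.CoT.Gens.cdv_lt _),
    linL_idL (Cfsg.Agent.H612.CoT.Gens.cdv_lt _)] at h3
  exact mk_of_cdv h3

/-- **the action is faithful** -/
theorem faithful (c : Spor.Co2) (h : ∀ y : Y, c • y = y) : c = 1 := by
  have hs : IsSimpleGroup Spor.Co2 := Cfsg.Agent.Schreier.CoTwoStab.isSimpleGroup
  let N : Subgroup Spor.Co2 := (MulAction.toPermHom Spor.Co2 Y).ker
  have hc : c ∈ N := by
    rw [MonoidHom.mem_ker]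
    exact Equiv.ext h
  rcases hs.eq_bot_or_eq_top_of_normal N inferInstance with h1 | h1
  · rw [h1] at hc
    exact Subgroup.mem_bot.1 hc
  · exfalso
    have h2 : ∀ y y' : Y, y = y' := by
      intro y y'
      obtain ⟨g, hg⟩ := MulAction.exists_smul_eq Spor.Co2 y y'
      have h3 : g ∈ N := by rw [h1]; trivial
      have h4 : MulAction.toPermHom Spor.Co2 Y g = 1 := h3
      have h5 := Equiv.congr_fun h4 y
      rw [← hg]
      exact h5.symm
    have : Subsingleton Y := ⟨h2⟩
    have h3 := Cfsg.Agent.H843.IMC.Co2B.card_Y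
    have h4 := Finite.card_le_one_iff_subsingleton.2 this
    rw [h3] at h4
    norm_num at h4

end Cfsg.Agent.H258.CoT
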