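import Cfsg.Agent.H633.Ore.Lin
import Cfsg.Agent.SporadicStructure.Co2RankThree
import Cfsg.Agent.LeechMat.Orbit
import Cfsg.Agent.Leech.ModTwoLeech
import Cfsg.Agent.Leech.Basic

/-!
# The Leech lattice modulo 2 in bit vectors (helper258)

* `bt x y` : the form `(x, y) / 8` modulo 2;
* `kap bs x` : the number with the bits `bt b x`, `b ∈ bs`;
* `comb bs v` : the sum of the elements of `bs` selected by the bits of `v`;
* `exists_comb` : 24 vectors with invertible Gram matrix span the lattice modulo 2.
-/

set_option autoImplicit false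
set_option linter.unusedSectionVars false

namespace Cfsg.Agent.H258.CoT

open Cfsg Cfsg.Agent.H633.Ore
open Cfsg.Agent.SporadicStructure.Co2RankThree (dt dt_comm dt_add_right dt_sub_right dt_neg_right norm_eq)

/-- the form modulo 2 -/
def bt (x y : leechLattice) : Bool := decide ((dt x y / 8) % 2 = 1)

theorem exists_dt (x y : leechLattice) : ∃ k, dt x y = 8 * k :=
  Cfsg.Agent.Leech.Basic.eight_dvd_dotInt x.2 y.2

theorem bt_of {x y : leechLattice} {k : ℤ} (h : dt x y = 8 * k) : bt x y = decide (k % 2 = 1) := by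
  unfold bt
  rw [h, Int.mul_ediv_cancel_left _ (by norm_num)]

theorem bt_comm (x y : leechLattice) : bt x y = bt y x := by
  unfold bt; rw [dt_comm]

theorem bt_add (x y z : leechLattice) : bt x (y + z) = (bt x y ^^ bt x z) := by
  obtain ⟨a, ha⟩ := exists_dt x y
  obtain ⟨b, hb⟩ := exists_dt x z
  have hc : dt x (y + z) = 8 * (a + b) := by rw [dt_add_right, ha, hb]; ring
  rw [bt_of ha, bt_of hb, bt_of hc]
  rcases Int.emod_two_eq_zero_or_one a with h1 | h1 <;> rcases Int.emod_two_eq_zero_or_one b with h2 | h2 <;>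
    rw [Int.add_emod, h1, h2] <;> rfl

theorem bt_zero (x : leechLattice) : bt x 0 = false := by
  have h := bt_add x 0 0
  rw [add_zero, Bool.xor_self] at h
  exact h

theorem bt_neg (x y : leechLattice) : bt x (-y) = bt x y := by
  have h := bt_add x y (-y)
  rw [add_neg_cancel, bt_zero] at h
  cases h1 : bt x y <;> cases h2 : bt x (-y) <;> rw [h1, h2] at h <;> first | rfl | exact absurd h (by decide)

/-- congruence modulo 2 -/
def Cong (x y : leechLattice) : Prop := ∃ z, x - y = z + z

theorem bt_dbl (x z : leechLattice) : bt x (z + z) = false := by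
  rw [bt_add, Bool.xor_self]

theorem Cong.bt {x y : leechLattice} (h : Cong x y) (u : leechLattice) : CoT.bt u x = CoT.bt u y := by
  obtain ⟨z, hz⟩ := h
  have h1 : x = y + (z + z) := by rw [← hz]; abel
  rw [h1, bt_add, bt_dbl, Bool.xor_false]

theorem Cong.symm {x y : leechLattice} (h : Cong x y) : Cong y x := by
  obtain ⟨z, hz⟩ := h
  exact ⟨-z, by rw [← neg_sub, hz]; abel⟩

theorem Cong.trans {x y w : leechLattice} (h : Cong x y) (h' : Cong y w) : Cong x w := by
  obtain ⟨z, hz⟩ := h
  obtain ⟨z', hz'⟩ := h'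
  exact ⟨z + z', by rw [← sub_add_sub_cancel x y w, hz, hz']; abel⟩

theorem Cong.refl (x : leechLattice) : Cong x x := ⟨0, by simp⟩

theorem Cong.add {x y x' y' : leechLattice} (h : Cong x y) (h' : Cong x' y') : Cong (x + x') (y + y') := by
  obtain ⟨z, hz⟩ := h
  obtain ⟨z', hz'⟩ := h'
  exact ⟨z + z', by rw [add_sub_add_comm, hz, hz']; abel⟩

theorem Cong.neg (x : leechLattice) : Cong (-x) x := ⟨-x, by abel⟩

/-- two minimal vectors congruent modulo 2 are equal or opposite -/
theorem Cong.eq_or {x y : leechLattice} (h : Cong x y) (hx : dt x x = 32) (hy : dt y y = 32) : y = x ∨ y = -x := by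
  obtain ⟨z, hz⟩ := h
  have h1 : dt (x - y) (x - y) = 4 * dt z z := by
    rw [hz, dt_add_right, dt_comm (z + z) z, dt_add_right]; ring
  have h2 : dt (x - y) (x - y) = 64 - 2 * dt x y := by
    rw [dt_sub_right, dt_comm (x - y) x, dt_comm (x - y) y, dt_sub_right, dt_sub_right, hx, hy, dt_comm y x]; ring
  have h3 : dt (x + y) (x + y) = 64 + 2 * dt x y := by
    rw [dt_add_right, dt_comm (x + y) x, dt_comm (x + y) y, dt_add_right, dt_add_right, hx, hy, dt_comm y x]; ring
  have h4 : 0 ≤ dt (x + y) (x + y) := by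
    rw [← norm_eq]; exact Cfsg.Agent.LeechMat.Core.sqNorm_nonneg _
  by_cases hz0 : ((z : leechLattice) : GolayPt → ℤ) = 0
  · left
    have : z = 0 := Subtype.ext hz0
    rw [this, add_zero, sub_eq_zero] at hz
    exact hz.symm
  · right
    have h5 := Cfsg.Agent.Leech.Basic.le_sqNorm z.2 hz0
    rw [norm_eq] at h5
    have h6 : dt (x + y) (x + y) = 0 := by omega
    rw [← norm_eq] at h6
    have h7 : x + y = 0 := Subtype.ext (Cfsg.Agent.LeechMat.Core.sqNorm_eq_zero h6)
    exact (neg_eq_of_add_eq_zero_right h7).symm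

/-! ### bit vectors -/

/-- the number with the bits `bt b x` -/
def kap : List leechLattice → leechLattice → ℕ
  | [], _ => 0
  | b :: bs, x => (bt b x).toNat + 2 * kap bs x

/-- the sum of the vectors selected by the bits of `v` -/
def comb : List leechLattice → ℕ → leechLattice
  | [], _ => 0
  | b :: bs, v => (if v.testBit 0 then b else 0) + comb bs (v >>> 1)

theorem bit_xor (c d : Bool) (A B : ℕ) : (c ^^ d).toNat + 2 * (A ^^^ B) = (c.toNat + 2 * A) ^^^ (d.toNat + 2 * B) := by
  have key : ∀ (c : Bool) (A i : ℕ), (c.toNat + 2 * A).testBit i = if i = 0 then c else A.testBit (i - 1) := by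
    intro c A i
    cases i with
    | zero => cases c <;> simp [Nat.testBit_zero]
    | succ i =>
      rw [if_neg (Nat.succ_ne_zero i), Nat.testBit_succ, Nat.add_sub_cancel]
      congr 1
      cases c <;> simp
      omega
  apply Nat.eq_of_testBit_eq
  intro i
  rw [Nat.testBit_xor, key, key, key]
  split_ifs
  · rfl
  · rw [Nat.testBit_xor]

theorem kap_add (bs : List leechLattice) (x y : leechLattice) : kap bs (x + y) = kap bs x ^^^ kap bs y := by
  induction bs with
  | nil => exact (Nat.xor_self 0).symm
  | cons b bs ih =>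
    show (bt b (x + y)).toNat + 2 * kap bs (x + y) = ((bt b x).toNat + 2 * kap bs x) ^^^ ((bt b y).toNat + 2 * kap bs y)
    rw [ih, bt_add, bit_xor]

theorem kap_zero (bs : List leechLattice) : kap bs 0 = 0 := by
  have h := kap_add bs 0 0
  rwa [add_zero, Nat.xor_self] at h

theorem kap_congr (bs : List leechLattice) {x y : leechLattice} (h : ∀ b ∈ bs, bt b x = bt b y) : kap bs x = kap bs y := by
  induction bs with
  | nil => rfl
  | cons b bs ih =>
    show (bt b x).toNat + 2 * kap bs x = (bt b y).toNat + 2 * kap bs y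
    rw [ih fun c hc => h c (List.mem_cons_of_mem _ hc), h b List.mem_cons_self]

theorem kap_lt (bs : List leechLattice) (x : leechLattice) : kap bs x < 2 ^ bs.length := by
  induction bs with
  | nil => exact Nat.one_pos
  | cons b bs ih =>
    show (bt b x).toNat + 2 * kap bs x < 2 ^ (bs.length + 1)
    rw [pow_succ]
    have := Bool.toNat_le (bt b x)
    omega

theorem kap_comb (bs cs : List leechLattice) (v : ℕ) : kap bs (comb cs v) = linL (cs.map (kap bs)) v := by
  induction cs generalizing v with
  | nil => rw [List.map_nil, linL_nil]; exact kap_zero bs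
  | cons c cs ih =>
    rw [List.map_cons, linL_cons, ← ih]
    show kap bs ((if v.testBit 0 then c else 0) + comb cs (v >>> 1)) = _
    rw [kap_add]
    congr 1
    rw [Nat.testBit_zero]
    have : v % 2 = 0 ∨ v % 2 = 1 := by omega
    rw [Nat.and_one_is_mod]
    rcases this with h | h <;> rw [h]
    · rw [if_neg (by decide), kap_zero, Nat.zero_mul]
    · rw [if_pos (by decide), Nat.one_mul]

theorem comb_append (l bs : List leechLattice) (v : ℕ) : comb (l ++ bs) v = comb l v + comb bs (v >>> l.length) := by
  induction l generalizing v with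
  | nil => exact (zero_add (comb bs v)).symm
  | cons a l ih =>
    show (if v.testBit 0 then a else 0) + comb (l ++ bs) (v >>> 1) =
      ((if v.testBit 0 then a else 0) + comb l (v >>> 1)) + comb bs (v >>> (l.length + 1))
    rw [ih, add_assoc, ← Nat.shiftRight_add, Nat.add_comm 1]

theorem comb_mod (bs : List leechLattice) (v m : ℕ) (hm : bs.length ≤ m) : comb bs (v % 2 ^ m) = comb bs v := by
  induction bs generalizing v m with
  | nil => rfl
  | cons b bs ih =>
    obtain ⟨m, rfl⟩ : ∃ k, m = k + 1 := ⟨m - 1, by have : 1 ≤ m := le_trans (by simp) hm; omega⟩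
    have hm' : bs.length ≤ m := by simpa using hm
    show (if (v % 2 ^ (m + 1)).testBit 0 then b else 0) + comb bs ((v % 2 ^ (m + 1)) >>> 1) =
      (if v.testBit 0 then b else 0) + comb bs (v >>> 1)
    have h1 : (v % 2 ^ (m + 1)).testBit 0 = v.testBit 0 := by
      rw [Nat.testBit_mod_two_pow]; simp
    have h2 : (v % 2 ^ (m + 1)) >>> 1 = (v >>> 1) % 2 ^ m := by
      rw [Nat.shiftRight_eq_div_pow, Nat.shiftRight_eq_div_pow, pow_one, pow_succ, mul_comm (2 ^ m) 2, Nat.mod_mul_right_div_self]
    rw [h1, h2, ih _ _ hm']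

theorem bt_comb_false {u : leechLattice} {bs : List leechLattice} (h : ∀ b ∈ bs, bt u b = false) (v : ℕ) :
    bt u (comb bs v) = false := by
  induction bs generalizing v with
  | nil => exact bt_zero u
  | cons b bs ih =>
    show bt u ((if v.testBit 0 then b else 0) + comb bs (v >>> 1)) = false
    rw [bt_add, ih fun c hc => h c (List.mem_cons_of_mem _ hc), Bool.xor_false]
    split_ifs
    · exact h b List.mem_cons_self
    · exact bt_zero u

/-- a bit of a linear combination of rows -/
theorem testBit_linL {u : leechLattice} (p : ℕ) : ∀ {CT : List ℕ} {bs : List leechLattice},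
    List.Forall₂ (fun C b => C.testBit p = bt u b) CT bs → ∀ v, (linL CT v).testBit p = bt u (comb bs v) := by
  intro CT bs h
  induction h with
  | nil => intro v; rw [linL_nil, Nat.zero_testBit]; exact (bt_zero u).symm
  | @cons C b CT bs h1 h2 ih =>
    intro v
    rw [linL_cons, Nat.testBit_xor, ih]
    show _ = bt u ((if v.testBit 0 then b else 0) + comb bs (v >>> 1))
    rw [bt_add]
    congr 1
    rw [Nat.testBit_zero, Nat.and_one_is_mod]
    have : v % 2 = 0 ∨ v % 2 = 1 := by omega
    rcases this with h | h <;> rw [h]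
    · rw [if_neg (by decide), bt_zero, Nat.zero_mul, Nat.zero_testBit]
    · rw [if_pos (by decide), Nat.one_mul, h1]

/-! ### 24 vectors with an invertible Gram matrix -/

open Module in
/-- 24 vectors with an invertible Gram matrix modulo 2 span the lattice modulo 2 -/
theorem exists_comb {bs : List leechLattice} {D : List ℕ} (hD : (bs.map (kap bs)).map (linL D) = idL 24) (x : leechLattice) :
    ∃ v < 2 ^ 24, Cong x (comb bs v) := by
  let lat := Cfsg.Agent.Leech.ModTwoLeech.lat
  let tl : leechLattice → lat := fun x => ⟨x.1, x.2⟩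
  let Q := lat ⧸ (nsmulAddMonoidHom (α := lat) 2).range
  have hrank : finrank ℤ lat ≤ 24 := by
    have := Submodule.finrank_le lat
    rw [Module.finrank_fintype_fun_eq_card] at this
    simpa [GolayPt] using this
  have hQ : Nat.card Q = 2 ^ finrank ℤ lat := Cfsg.Agent.Leech.ModTwo.card_quot (L := lat)
  have hQ' : Nat.card Q ≤ 2 ^ 24 := by rw [hQ]; exact Nat.pow_le_pow_right (by norm_num) hrank
  have : Finite Q := Nat.finite_of_card_ne_zero (by rw [hQ]; positivity)
  have hcong : ∀ x y : leechLattice, (QuotientAddGroup.mk (tl x) : Q) = QuotientAddGroup.mk (tl y) → Cong x y := by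
    intro x y h
    obtain ⟨z, hz⟩ := Cfsg.Agent.Leech.ModTwo.mk_eq_iff.1 h
    refine ⟨⟨z.1, z.2⟩, Subtype.ext ?_⟩
    have h1 := congrArg Subtype.val hz
    rw [two_nsmul] at h1
    exact h1
  let f : Fin (2 ^ 24) → Q := fun v => QuotientAddGroup.mk (tl (comb bs v))
  have hf : Function.Injective f := by
    intro v w h
    have h1 := hcong _ _ h
    have h2 : kap bs (comb bs v) = kap bs (comb bs w) := kap_congr bs fun b _ => h1.bt b
    rw [kap_comb, kap_comb] at h2
    have h3 := congrArg (linL D) h2
    rw [← linL_map, ← linL_map, hD, linL_idL v.2, linL_idL w.2] at h3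
    exact Fin.ext h3
  have hb := hf.bijective_of_nat_card_le (by rw [Nat.card_fin]; exact hQ')
  obtain ⟨v, hv⟩ := hb.2 (QuotientAddGroup.mk (tl x))
  exact ⟨v, v.2, (hcong _ _ hv).symm⟩

end Cfsg.Agent.H258.CoT
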